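import Groth.Agent.Sga4B.DualFormal
import Groth.Agent.Sga4B.ZModInj
import Groth.Agent.Etcore.ExtMap

/-!
# Duality in terms of the Yoneda pairing: abstract nonsense

* `bijective_tr`: a trace `tr : Ext^N(Z, Ψ K) → ℤ/n` with `Hom(K, K) ≅ Hom(Ext^N(Z, Ψ K), ℤ/n)` is
  bijective when the endomorphisms of `K` are the multiples of the identity.
* `bijective_postcomp`: if `Φ : A ⥤ B'`, `Θ : B' ⥤ B`, `Φ ⋙ Θ ≅ Ψ`, comparison of `Ext_{B'}(Z', -)` with
  `Ext_B(Z, Θ -)`, duality for `(Ψ, Z, tr)` and `tr` bijective, then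
  `Ext^q(F, K) → Hom(Ext^m(Z', Φ F), Ext^N(Z', Φ K))` is bijective.
-/

set_option autoImplicit false

universe w w' w'' v v' v'' u u' u'' t

open CategoryTheory CategoryTheory.Limits CategoryTheory.Abelian
open Groth.Agent.Sga4B.DualFormal Groth.Agent.Etcore.ExtMap

namespace Groth.Agent.EtSix.H42.PairAbs

section Trace

variable {A : Type u} [Category.{v} A] [Abelian A] [HasExt.{w} A]
variable {B : Type u'} [Category.{v'} B] [Abelian B] [HasExt.{w'} B]
variable (Ψ : A ⥤ B) [Ψ.Additive] [PreservesFiniteLimits Ψ] [PreservesFiniteColimits Ψ]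
variable (Z : B) {K : A} {N : ℕ} {n : ℕ} (tr : Ext.{w'} Z (Ψ.obj K) N →+ ULift.{t} (ZMod n))

theorem phi_id : phi Ψ Z tr K (q := 0) (m := N) (add_zero N) (Ext.mk₀ (𝟙 K)) = tr := by
  ext x
  rw [phi_apply, Ext.mapExactFunctor_mk₀, CategoryTheory.Functor.map_id, Ext.comp_mk₀_id]

theorem phi_zsmul_id (z : ℤ) :
    phi Ψ Z tr K (q := 0) (m := N) (add_zero N) (Ext.mk₀ (z • 𝟙 K)) = z • tr := by
  have h : Ext.mk₀ (z • 𝟙 K) = z • Ext.mk₀ (𝟙 K) := map_zsmul (Ext.addEquiv₀.symm) z _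
  rw [h, map_zsmul, phi_id]

theorem bijective_tr (hn : 0 < n)
    (h0 : Function.Bijective (phi Ψ Z tr K (q := 0) (m := N) (add_zero N)))
    (hend : ∀ f : K ⟶ K, ∃ z : ℤ, f = z • 𝟙 K) (hord : ∀ z : ℤ, z • 𝟙 K = 0 → (n : ℤ) ∣ z)
    (hk : ∀ x : Ext.{w'} Z (Ψ.obj K) N, n • x = 0) : Function.Bijective tr := by
  constructor
  · rw [injective_iff_map_eq_zero]
    intro x hx
    refine Sga4B.ZModInj.eq_zero_of_forall n hn hk x (fun b => ?_)
    obtain ⟨e, he⟩ := h0.2 (AddEquiv.ulift.symm.toAddMonoidHom.comp b)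
    obtain ⟨f, rfl⟩ := (Ext.mk₀_bijective K K).2 e
    obtain ⟨z, rfl⟩ := hend f
    rw [phi_zsmul_id] at he
    have h1 := DFunLike.congr_fun he x
    have h2 : (z • tr) x = 0 := by
      rw [AddMonoidHom.smul_apply, hx, smul_zero]
    have h3 : (ULift.up (b x) : ULift.{t} (ZMod n)) = 0 := h1.symm.trans h2
    exact congrArg ULift.down h3
  · have : NeZero n := ⟨hn.ne'⟩
    by_contra hs
    have hne : tr.range ≠ ⊤ := fun h => hs (AddMonoidHom.range_eq_top.1 h)
    have hfin : Finite (ULift.{t} (ZMod n)) := inferInstance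
    have hcard : Nat.card (ULift.{t} (ZMod n)) = n := by
      rw [Nat.card_congr Equiv.ulift, Nat.card_zmod]
    have hlt : Nat.card tr.range < n := by
      have h1 := AddSubgroup.card_le_card_addGroup tr.range
      rcases h1.lt_or_eq with h | h
      · rwa [hcard] at h
      · exact absurd (AddSubgroup.eq_top_of_card_eq _ h) hne
    have hpos : 0 < Nat.card tr.range := Nat.card_pos
    have h2 : ((Nat.card tr.range : ℕ) : ℤ) • 𝟙 K = 0 := by
      have h3 : phi Ψ Z tr K (q := 0) (m := N) (add_zero N)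
          (Ext.mk₀ (((Nat.card tr.range : ℕ) : ℤ) • 𝟙 K)) = 0 := by
        rw [phi_zsmul_id]
        ext1 x
        rw [AddMonoidHom.smul_apply, natCast_zsmul, AddMonoidHom.zero_apply]
        have h4 : Nat.card tr.range • (⟨tr x, ⟨x, rfl⟩⟩ : tr.range) = 0 := card_nsmul_eq_zero'
        exact congrArg Subtype.val h4
      have h5 := h0.1 (h3.trans (map_zero _).symm)
      exact (Ext.mk₀_bijective K K).1 (h5.trans (Ext.mk₀_zero (X := K) (Y := K)).symm)
    have h6 := hord _ h2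
    have h7 : n ∣ Nat.card tr.range := by exact_mod_cast h6
    exact absurd (Nat.le_of_dvd hpos h7) (not_le.2 hlt)

end Trace

section Transfer

variable {A : Type u} [Category.{v} A] [Abelian A] [HasExt.{w} A] [EnoughInjectives A]
variable {B' : Type u'} [Category.{v'} B'] [Abelian B'] [HasExt.{w'} B']
variable {B : Type u''} [Category.{v''} B] [Abelian B] [HasExt.{w''} B]
variable (Φ : A ⥤ B') [Φ.Additive] [PreservesFiniteLimits Φ] [PreservesFiniteColimits Φ]
variable (Θ : B' ⥤ B) [Θ.Additive] [PreservesFiniteLimits Θ] [PreservesFiniteColimits Θ]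
variable (Ψ : A ⥤ B) [Ψ.Additive] [PreservesFiniteLimits Ψ] [PreservesFiniteColimits Ψ]
variable (τ : Φ ⋙ Θ ≅ Ψ) {Z' : B'} {Z : B} (c : Z ⟶ Θ.obj Z')

/-- The comparison map `Ext_{B'}(Z', Φ F) → Ext_B(Z, Ψ F)`. -/
noncomputable def cmp (F : A) (m : ℕ) :
    Ext.{w'} Z' (Φ.obj F) m →+ Ext.{w''} Z (Ψ.obj F) m :=
  ((Ext.mk₀ (τ.hom.app F)).postcomp Z (add_zero m)).comp (extMap Θ c (Φ.obj F) m)

omit [Abelian A] [HasExt.{w} A] [EnoughInjectives A] [Φ.Additive] [PreservesFiniteLimits Φ]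
  [PreservesFiniteColimits Φ] [Ψ.Additive] [PreservesFiniteLimits Ψ] [PreservesFiniteColimits Ψ] in
theorem cmp_apply (F : A) (m : ℕ) (x : Ext.{w'} Z' (Φ.obj F) m) :
    cmp Φ Θ Ψ τ c F m x =
      (extMap Θ c (Φ.obj F) m x).comp (Ext.mk₀ (τ.hom.app F)) (add_zero m) := rfl

theorem cmp_comp {F K : A} {q m N : ℕ} (h : m + q = N) (e : Ext.{w} F K q)
    (x : Ext.{w'} Z' (Φ.obj F) m) :
    cmp Φ Θ Ψ τ c K N (x.comp (e.mapExactFunctor Φ) h) =
      (cmp Φ Θ Ψ τ c F m x).comp (e.mapExactFunctor Ψ) h := by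
  have i1 : (Φ ⋙ Θ).Additive := inferInstance
  have i2 : PreservesFiniteLimits (Φ ⋙ Θ) := comp_preservesFiniteLimits _ _
  have i3 : PreservesFiniteColimits (Φ ⋙ Θ) := comp_preservesFiniteColimits _ _
  rw [cmp_apply, cmp_apply, extMap_comp]
  have h1 : (e.mapExactFunctor Φ).mapExactFunctor Θ = e.mapExactFunctor (Φ ⋙ Θ) :=
    (Etcore.ExtAdj.mapExactFunctor_compFunctor Φ Θ e).symm
  have h2 := Etcore.ExtAdj.mapExactFunctor_nat (F := Φ ⋙ Θ) (G := Ψ) τ.hom e
  refine (congrArg (fun y => ((extMap Θ c (Φ.obj F) m x).comp y h).comp (Ext.mk₀ (τ.hom.app K))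
    (add_zero N)) h1).trans ?_
  rw [Ext.comp_assoc_of_third_deg_zero]
  refine (congrArg (fun y => (extMap Θ c (Φ.obj F) m x).comp y h) h2).trans ?_
  rw [Ext.comp_assoc_of_second_deg_zero]

omit [Abelian A] [HasExt.{w} A] [EnoughInjectives A] [Φ.Additive] [PreservesFiniteLimits Φ]
  [PreservesFiniteColimits Φ] [Ψ.Additive] [PreservesFiniteLimits Ψ] [PreservesFiniteColimits Ψ] in
theorem bijective_cmp (F : A) (m : ℕ)
    (hc : Function.Bijective (extMap Θ c (Φ.obj F) m)) :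
    Function.Bijective (cmp Φ Θ Ψ τ c F m) := by
  have h2 : Function.Bijective (fun y : Ext.{w''} Z (Θ.obj (Φ.obj F)) m =>
      y.comp (Ext.mk₀ (τ.hom.app F)) (add_zero m)) := by
    refine Function.bijective_iff_has_inverse.2
      ⟨fun y => y.comp (Ext.mk₀ (τ.inv.app F)) (add_zero m), ?_, ?_⟩
    · intro y
      dsimp only
      rw [Ext.comp_assoc_of_third_deg_zero, Ext.mk₀_comp_mk₀, Iso.hom_inv_id_app]
      exact Ext.comp_mk₀_id _
    · intro y
      dsimp only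
      rw [Ext.comp_assoc_of_third_deg_zero, Ext.mk₀_comp_mk₀, Iso.inv_hom_id_app, Ext.comp_mk₀_id]
  exact h2.comp hc

variable {E : Type t} [AddCommGroup E] {K : A} {N : ℕ} (tr : Ext.{w''} Z (Ψ.obj K) N →+ E)


include τ in
/-- **Duality as the Yoneda pairing.** -/
theorem bijective_postcomp (htr : Function.Bijective tr) (F : A) {q m : ℕ} (h : m + q = N)
    (hF : Function.Bijective (extMap Θ c (Φ.obj F) m))
    (hK : Function.Bijective (extMap Θ c (Φ.obj K) N))
    (hphi : Function.Bijective (phi Ψ Z tr F h)) :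
    Function.Bijective (fun e : Ext.{w} F K q => (Φ.mapExtAddHom F K q e).postcomp Z' h) := by
  have h1 := bijective_cmp Φ Θ Ψ τ c F m hF
  have h2 := bijective_cmp Φ Θ Ψ τ c K N hK
  have key : ∀ (e : Ext.{w} F K q) (x : Ext.{w'} Z' (Φ.obj F) m),
      tr (cmp Φ Θ Ψ τ c K N ((Φ.mapExtAddHom F K q e).postcomp Z' h x)) =
        phi Ψ Z tr F h e (cmp Φ Θ Ψ τ c F m x) := by
    intro e x
    rw [phi_apply]
    exact congrArg tr (cmp_comp Φ Θ Ψ τ c h e x)
  constructor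
  · intro e e' hee
    apply hphi.1
    ext y
    obtain ⟨x, rfl⟩ := h1.2 y
    rw [← key, ← key]
    exact congrArg _ (congrArg _ (DFunLike.congr_fun hee x))
  · intro β
    let a := AddEquiv.ofBijective _ h1
    let b := AddEquiv.ofBijective (tr.comp (cmp Φ Θ Ψ τ c K N)) (htr.comp h2)
    obtain ⟨e, he⟩ := hphi.2 ((b.toAddMonoidHom.comp β).comp a.symm.toAddMonoidHom)
    refine ⟨e, ?_⟩
    ext x
    apply b.injective
    refine (key e x).trans ?_
    rw [he]
    change b (β (a.symm (a x))) = b (β x)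
    rw [a.symm_apply_apply]

end Transfer

end Groth.Agent.EtSix.H42.PairAbs
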