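import Groth.Prelude.Def_SixF2
import Groth.Agent.Etrest.ModAb
import Groth.Agent.Etcore.ShriekBasic

/-!
# Extension by zero of sheaves of modules and of the underlying abelian sheaves

`extZeroAbIso : j_! (modules) ⋙ ab ≅ ab ⋙ j_!`.
-/

set_option autoImplicit false
universe u

open CategoryTheory CategoryTheory.Limits AlgebraicGeometry Opposite
open Groth.Agent.Etrest.ModAb

namespace Groth.Agent.EtSix.H42.ShriekMod

variable (Λ : Type (u + 1)) [CommRing Λ] {U X : Scheme.{u}} (j : U ⟶ X) [Etale j]
  [EtShriek.JCont j]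

/-- Restriction commutes with coinduction. -/
noncomputable def restrCoindIso :
    coindSh Λ X ⋙ EtSix.restrMod Λ j ≅ EtShriek.restrAlong j ⋙ coindSh Λ U :=
  NatIso.ofComponents (fun _ => Iso.refl _) (fun _ => by
    apply Sheaf.hom_ext
    rfl)

/-- `j_!` commutes with passing to the underlying abelian sheaf. -/
noncomputable def extZeroAbIso :
    EtSix.extZeroMod Λ j ⋙ ab Λ X ≅ ab Λ U ⋙ EtShriek.extZero j :=
  (((EtSix.extZeroModAdj Λ j).comp (coindShAdj Λ X)).ofNatIsoRight
    (restrCoindIso Λ j)).leftAdjointUniq ((coindShAdj Λ U).comp (EtShriek.extZeroAdj j))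

end Groth.Agent.EtSix.H42.ShriekMod
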