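import Groth.Prelude.Def_SixF2
import Groth.Agent.Sga4B.PDKummer
import Groth.Agent.Sga4B.PDConst
import Groth.Agent.Sga4h.ModDUnit
import Groth.Agent.Sga4h.BidGlobPkg
import Groth.Agent.Etrest.SHPoint

/-!
# The Tate twists over an algebraically closed field, endomorphisms of the constant sheaf

* `nonempty_iso_tate`: `(ℤ/n)(d) ≅ ℤ/n` on a scheme over a separably closed field in which `n` is invertible.
* `exists_zsmul`, `dvd_of_zsmul`: on a connected scheme the endomorphisms of a sheaf of `ℤ/n`-modules isomorphic to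
  the constant sheaf `ℤ/n` are the integer multiples of the identity, and `z • 𝟙 = 0` only if `n ∣ z`.
-/

set_option autoImplicit false
universe u v w

open CategoryTheory CategoryTheory.Limits CategoryTheory.Abelian AlgebraicGeometry Opposite
open Groth.Agent.Etrest.ModAb Groth.Agent.Sga4B Groth.Agent.Sga4h.BidGlobPkg
open Groth.Agent.Etcore.EtInst
open scoped Groth.Agent.Etcore.EtInst Groth.Agent.Sga4B.PDInst

namespace Groth.Agent.EtSix.H42.TateK

section EndAbs

variable {A : Type u} [Category.{v} A] [Preadditive A] {K : A} {n : ℕ}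

theorem dvd_of_zsmul (φ : (K ⟶ K) ≃+ ZMod n) (z : ℤ) (hz : z • 𝟙 K = 0) : (n : ℤ) ∣ z := by
  have h1 : ∀ f : K ⟶ K, z • f = 0 := fun f => by
    have h2 : f ≫ (z • 𝟙 K) = z • f := by
      rw [Preadditive.comp_zsmul, Category.comp_id]
    rw [← h2, hz, comp_zero]
  obtain ⟨f, hf⟩ := φ.surjective 1
  have h3 : z • (1 : ZMod n) = 0 := by
    rw [← hf, ← map_zsmul, h1, map_zero]
  rw [zsmul_eq_mul, mul_one] at h3
  exact (ZMod.intCast_zmod_eq_zero_iff_dvd z n).1 h3

theorem exists_zsmul (hn : 0 < n) (φ : (K ⟶ K) ≃+ ZMod n) (f : K ⟶ K) :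
    ∃ z : ℤ, f = z • 𝟙 K := by
  have : NeZero n := ⟨hn.ne'⟩
  have h1 : Function.Injective (fun a : ZMod n => a * φ (𝟙 K)) := by
    intro a b hab
    obtain ⟨x, rfl⟩ := ZMod.intCast_surjective a
    obtain ⟨y, rfl⟩ := ZMod.intCast_surjective b
    have h2 : (x - y) • φ (𝟙 K) = 0 := by
      rw [zsmul_eq_mul, Int.cast_sub, sub_mul, sub_eq_zero]
      exact hab
    rw [← map_zsmul] at h2
    have h3 := dvd_of_zsmul φ (x - y) (φ.injective (h2.trans (map_zero φ).symm))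
    exact ((ZMod.intCast_eq_intCast_iff_dvd_sub y x n).2 h3).symm
  obtain ⟨a, ha⟩ := (Finite.injective_iff_surjective.1 h1) (φ f)
  obtain ⟨z, rfl⟩ := ZMod.intCast_surjective a
  refine ⟨z, φ.injective ?_⟩
  rw [map_zsmul, zsmul_eq_mul]
  exact ha.symm

end EndAbs

variable {n : ℕ} {X : Scheme.{u}}

/-- The constant sheaf, its underlying abelian sheaf. -/
noncomputable def abConst (n : ℕ) (X : Scheme.{u}) :
    (ab (ULift.{u + 1} (ZMod n)) X).obj (EtSix.constΛ (ULift.{u + 1} (ZMod n)) X) ≅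
      EtCoh.const X (ZMod n) :=
  (constIso (ULift.{u + 1} (ZMod n)) X).app
    (ModuleCat.of (ULift.{u + 1} (ZMod n)) (ULift.{u + 1} (ZMod n)))

theorem nonempty_end_const [ConnectedSpace X] :
    Nonempty ((EtSix.constΛ (ULift.{u + 1} (ZMod n)) X ⟶
      EtSix.constΛ (ULift.{u + 1} (ZMod n)) X) ≃+ ZMod n) := by
  obtain ⟨e⟩ := Etrest.SHPoint.nonempty_H0_const X (ZMod n)
  exact ⟨(Ext.addEquiv₀ (X := EtSix.constΛ (ULift.{u + 1} (ZMod n)) X)
    (Y := EtSix.constΛ (ULift.{u + 1} (ZMod n)) X)).symm.trans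
      ((PDConst.extConst (ULift.{u + 1} (ZMod n)) X _ 0).trans
        ((HTools.HCongr (abConst n X) 0).trans e))⟩

theorem nonempty_end [ConnectedSpace X] {K : EtModW.Mod (ULift.{u + 1} (ZMod n)) X}
    (e : EtSix.constΛ (ULift.{u + 1} (ZMod n)) X ≅ K) :
    Nonempty ((K ⟶ K) ≃+ ZMod n) := by
  obtain ⟨φ⟩ := nonempty_end_const (n := n) (X := X)
  refine ⟨AddEquiv.trans
    { toFun := fun f => e.hom ≫ f ≫ e.inv
      invFun := fun g => e.inv ≫ g ≫ e.hom
      left_inv := fun f => by simp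
      right_inv := fun g => by simp
      map_add' := fun f g => by simp } φ⟩

/-- Tensor powers of `ℤ/n`. -/
theorem nonempty_tensorPow {μ : EtModW.Mod (ULift.{u + 1} (ZMod n)) X}
    (e : μ ≅ EtSix.constΛ (ULift.{u + 1} (ZMod n)) X) (d : ℕ) :
    Nonempty (EtModD.tate μ d ≅ EtSix.constΛ (ULift.{u + 1} (ZMod n)) X) := by
  induction d with
  | zero => exact ⟨Iso.refl _⟩
  | succ d ih =>
    obtain ⟨e'⟩ := ih
    exact ⟨((EtModD.tensorBi (ULift.{u + 1} (ZMod n)) X).mapIso e').app μ ≪≫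
      (Sga4h.ModDUnit.unitIso (ULift.{u + 1} (ZMod n)) X).app μ ≪≫ e⟩

theorem nonempty_iso_tate (k : Type u) [Field k] [IsSepClosed k] (hn : (n : k) ≠ 0)
    (f : X ⟶ Spec (CommRingCat.of k)) (μ : EtModW.Mod (ULift.{u + 1} (ZMod n)) X)
    (hμ : EtModD.IsKummer n μ) (d : ℕ) :
    Nonempty (EtModD.tate μ d ≅ EtSix.constΛ (ULift.{u + 1} (ZMod n)) X) := by
  obtain ⟨e⟩ := PDKummer.nonempty_iso_kummer k hn f μ
    (EtSix.constΛ (ULift.{u + 1} (ZMod n)) X) hμ ⟨abConst n X⟩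
  exact nonempty_tensorPow e.symm d

end Groth.Agent.EtSix.H42.TateK
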