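import Groth.Agent.EtSix.H42.PairAbs
import Groth.Agent.EtSix.H42.ModToH
import Groth.Agent.EtSix.H42.ShriekMod
import Groth.Agent.EtSix.H42.TateK
import Groth.Agent.Sga4B.DualFinal

/-!
# Poincaré duality as the Yoneda pairing

Assembly, given the package `Pkg` for `(ℙ¹)^d`.
-/

set_option autoImplicit false
universe u v w u' v' w'

open CategoryTheory CategoryTheory.Limits CategoryTheory.Abelian AlgebraicGeometry Opposite
open Groth.Agent.Etrest.ModAb Groth.Agent.Sga4B Groth.Agent.Sga4h.BidGlobPkg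
open Groth.Agent.Sga4B.DualShape Groth.Agent.Sga4B.DualAsm Groth.Agent.Sga4B.LMLS

namespace Groth.Agent.EtSix.H42.Pairing

section Abs

variable {A : Type u} [Category.{v} A] [Abelian A] [HasExt.{w} A]
variable {B' : Type u'} [Category.{v'} B'] [Abelian B'] [HasExt.{w'} B']
variable (Φ : A ⥤ B') [Φ.Additive] [PreservesFiniteLimits Φ] [PreservesFiniteColimits Φ]
variable (Z' : B')

/-- The duality map is bijective for `T` if it is for an isomorphic `K`. -/
theorem bijective_congr {F K T : A} (e : T ≅ K) {q m N : ℕ} (h : m + q = N)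
    (hb : Function.Bijective
      (fun x : Ext.{w} F K q => (Φ.mapExtAddHom F K q x).postcomp Z' h)) :
    Function.Bijective (fun x : Ext.{w} F T q => (Φ.mapExtAddHom F T q x).postcomp Z' h) := by
  have key : ∀ (x : Ext.{w} F T q) (y : Ext.{w'} Z' (Φ.obj F) m),
      y.comp (Φ.mapExtAddHom F K q (x.comp (Ext.mk₀ e.hom) (add_zero q))) h =
        (y.comp (Φ.mapExtAddHom F T q x) h).comp (Ext.mk₀ (Φ.map e.hom)) (add_zero N) := by
    intro x y
    change y.comp ((x.comp (Ext.mk₀ e.hom) (add_zero q)).mapExactFunctor Φ) h =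
      (y.comp (x.mapExactFunctor Φ) h).comp (Ext.mk₀ (Φ.map e.hom)) (add_zero N)
    rw [Ext.mapExactFunctor_comp, Ext.mapExactFunctor_mk₀, Ext.comp_assoc_of_third_deg_zero]
  constructor
  · intro x x' hxx
    have h1 : x.comp (Ext.mk₀ e.hom) (add_zero q) = x'.comp (Ext.mk₀ e.hom) (add_zero q) := by
      apply hb.1
      ext y
      change y.comp (Φ.mapExtAddHom F K q (x.comp (Ext.mk₀ e.hom) (add_zero q))) h =
        y.comp (Φ.mapExtAddHom F K q (x'.comp (Ext.mk₀ e.hom) (add_zero q))) h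
      rw [key, key]
      exact congrArg (fun z => z.comp (Ext.mk₀ (Φ.map e.hom)) (add_zero N))
        (DFunLike.congr_fun hxx y)
    have h2 := congrArg (fun z => z.comp (Ext.mk₀ e.inv) (add_zero q)) h1
    rwa [Ext.comp_assoc_of_third_deg_zero, Ext.comp_assoc_of_third_deg_zero, Ext.mk₀_comp_mk₀,
      e.hom_inv_id, Ext.comp_mk₀_id, Ext.comp_mk₀_id] at h2
  · intro β
    obtain ⟨x', hx'⟩ := hb.2 (((Ext.mk₀ (Φ.map e.hom)).postcomp Z' (add_zero N)).comp β)
    refine ⟨x'.comp (Ext.mk₀ e.inv) (add_zero q), ?_⟩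
    ext y
    have h1 : y.comp (Φ.mapExtAddHom F K q x') h =
        (β y).comp (Ext.mk₀ (Φ.map e.hom)) (add_zero N) := DFunLike.congr_fun hx' y
    change y.comp ((x'.comp (Ext.mk₀ e.inv) (add_zero q)).mapExactFunctor Φ) h = β y
    rw [Ext.mapExactFunctor_comp, Ext.mapExactFunctor_mk₀, ← Ext.comp_assoc_of_third_deg_zero]
    refine (congrArg (fun z => z.comp (Ext.mk₀ (Φ.map e.inv)) (add_zero N)) h1).trans ?_
    rw [Ext.comp_assoc_of_third_deg_zero, Ext.mk₀_comp_mk₀, ← Functor.map_comp, e.hom_inv_id,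
      CategoryTheory.Functor.map_id, Ext.comp_mk₀_id]

end Abs

section Main

variable {k : Type u} [Field k] [IsAlgClosed k] {X P : Scheme.{u}} [ConnectedSpace X]
  (a : P ⟶ Spec (CommRingCat.of k)) [IsProper a] (j : X ⟶ P) [IsOpenImmersion j]
  (d : ℕ) [SmoothOfRelativeDimension d (j ≫ a)] (n : ℕ) (hn : 0 < n)
  (hQ : Pkg n (IterP1.P (Spec (CommRingCat.of k)) d) d)

include a hn hQ in
/-- Duality with a bijective trace. -/
theorem duality_tr : ∃ (K : EtModW.Mod (Lam.{u} n) X)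
    (tr : Ext.{u + 1} (Z P) ((Psi j n).obj K) (2 * d) →+ E.{u} n),
    Function.Bijective tr ∧
    (∀ (q m : ℕ) (h : m + q = 2 * d) (F : EtModW.Mod (Lam.{u} n) X),
      Function.Bijective (DualFormal.phi (Psi j n) (Z P) tr F h)) ∧
    Nonempty (EtSix.constΛ (ULift.{u + 1} (ZMod n)) X ≅ K) := by
  obtain ⟨K, tr, -, h2, h3⟩ := DualFinal.duality a j d n hn hQ
  have h4 : Nonempty (EtSix.constΛ (ULift.{u + 1} (ZMod n)) X ≅ K) := nonempty_iso_cM h3
  obtain ⟨e⟩ := h4
  obtain ⟨φ⟩ := TateK.nonempty_end e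
  refine ⟨K, tr, ?_, h2, ⟨e⟩⟩
  exact PairAbs.bijective_tr (Psi j n) (Z P) tr hn (h2 0 (2 * d) (add_zero _) K)
    (TateK.exists_zsmul hn φ) (TateK.dvd_of_zsmul φ) (fun x => DualAsm.nsmul_ext j K (2 * d) x)

include a hn hQ in
/-- **Poincaré duality, Yoneda form, in terms of a functor `Φ` with `Φ ⋙ ab ≅ ab ⋙ j_!`.** -/
theorem bijective_of_functor (Φ : EtModW.Mod (ULift.{u + 1} (ZMod n)) X ⥤
      EtModW.Mod (ULift.{u + 1} (ZMod n)) P) [Φ.Additive] [PreservesFiniteLimits Φ]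
    [PreservesFiniteColimits Φ] (τ : Φ ⋙ ab (ULift.{u + 1} (ZMod n)) P ≅ Psi j n)
    (T : EtModW.Mod (ULift.{u + 1} (ZMod n)) X)
    (hT : Nonempty (T ≅ EtSix.constΛ (ULift.{u + 1} (ZMod n)) X))
    (F : EtModW.Mod (ULift.{u + 1} (ZMod n)) X) {q i : ℕ} (h : i + q = 2 * d) :
    Function.Bijective (fun x : Ext.{u + 1} F T q =>
      (Φ.mapExtAddHom F T q x).postcomp (EtSix.constΛ (ULift.{u + 1} (ZMod n)) P) h) := by
  obtain ⟨K, tr, htr, h2, ⟨e⟩⟩ := duality_tr a j d n hn hQ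
  obtain ⟨e'⟩ := hT
  refine bijective_congr Φ _ (e' ≪≫ e) h ?_
  exact PairAbs.bijective_postcomp Φ (ab (ULift.{u + 1} (ZMod n)) P) (Psi j n) τ
    (EtSix.intToConstΛ (ULift.{u + 1} (ZMod n)) P) tr htr F h
    (ModToH.bijective_extMap_intToConst _ _ _) (ModToH.bijective_extMap_intToConst _ _ _)
    (h2 q i h F)

end Main

end Groth.Agent.EtSix.H42.Pairing
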